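import Cfsg.Agent.Char.DegreeSums
import Cfsg.Agent.Char.Constituents
import Cfsg.Agent.Char.Equivalence
import Cfsg.Agent.Char.AlgInt
import Cfsg.Agent.S4931

/-!
Odd-degree characters and the Sylow 2-normaliser.

For an odd-degree character `μ` of `N = N_G(P)` the induced character has odd degree, so it has an
odd-degree constituent of degree at least `μ(1)`; double counting multiplicities gives
`Σ χ(1)² ≥ [N : P']`, and equality makes every `μ` extend.
-/

set_option autoImplicit false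
set_option linter.style.haveILetI false
set_option linter.unusedSectionVars false

namespace CfsgLib.OddDegreeSum

open scoped commutatorElement

open Subgroup CfsgLib.Char

universe u

variable {G : Type u} [Group G] [Finite G]

/-- With a normal Sylow 2-subgroup `A`, odd degree means trivial on `A'`. -/
theorem odd_iff_commutator_le (A : Subgroup G) [A.Normal] (hA : IsPGroup 2 A) (hidx : ¬ 2 ∣ A.index)
    {θ : G → ℂ} (hθ : Cfsg.IsIrrCharacter G θ) :
    ¬ 2 ∣ cdeg θ ↔ ∀ x ∈ ⁅A, A⁆, θ x = θ 1 := by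
  classical
  haveI := Fintype.ofFinite G
  haveI := Fintype.ofFinite A
  constructor
  · intro hodd
    obtain ⟨ψ, hψ, hne⟩ := exists_constituent_restrict (N := A) hθ
    have hdeg := degree_eq_mul hθ hψ hne
    obtain ⟨e, he⟩ := IsCharacter.exists_classInner_eq_natCast
      (IsCharacter.restrict (IsIrrCharacter.isCharacter hθ) A) hψ
    rw [he, irr_apply_one_eq_cdeg hθ, irr_apply_one_eq_cdeg hψ] at hdeg
    have hdvd : cdeg ψ ∣ cdeg θ := by
      refine ⟨e * (inertia ψ).index, ?_⟩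
      have h := hdeg
      rw [← Nat.cast_mul, ← Nat.cast_mul, Nat.cast_inj] at h
      rw [h]; ring
    obtain ⟨k, hk⟩ := IsPGroup.iff_card.1 hA
    obtain ⟨i, -, hi⟩ := (Nat.dvd_prime_pow Nat.prime_two).1
      (hk ▸ IsIrrCharacter.degree_dvd_card hψ (irr_apply_one_eq_cdeg hψ))
    obtain rfl : i = 0 := by
      by_contra hi0
      exact hodd ((hi ▸ dvd_pow_self 2 hi0 : 2 ∣ cdeg ψ).trans hdvd)
    have hres := restrict_eq_smul_sum hθ hψ hne
    have hlin : ∀ φ ∈ conjOrbit (G := G) ψ, ∀ a b : A, φ ⁅a, b⁆ = φ 1 := by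
      intro φ hφ a b
      obtain ⟨g, rfl⟩ := mem_conjOrbit.1 hφ
      obtain ⟨lam, hlam⟩ := IsCharacter.exists_hom
        (IsIrrCharacter.isCharacter (isIrrCharacter_conjOn hψ g)) (by
          rw [conjOn_apply_one, irr_apply_one_eq_cdeg hψ, hi, pow_zero, Nat.cast_one])
      rw [hlam]
      show ((lam ⁅a, b⁆ : ℂˣ) : ℂ) = ((lam 1 : ℂˣ) : ℂ)
      rw [map_commutatorElement, map_one,
        commutatorElement_eq_one_iff_mul_comm.2 (mul_comm _ _)]
    let K : Subgroup G :=
      (kerSubgroup (IsIrrCharacter.isCharacter hθ))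
    intro x hx
    have hle : ⁅A, A⁆ ≤ K := by
      rw [Subgroup.commutator_le]
      intro a ha b hb
      rw [mem_kerSubgroup]
      have h1 := congrFun hres ⁅(⟨a, ha⟩ : A), ⟨b, hb⟩⁆
      have h2 := congrFun hres 1
      simp only [Pi.smul_apply, Finset.sum_apply] at h1 h2
      rw [OneMemClass.coe_one] at h2
      rw [h2, ← Finset.sum_congr rfl fun φ hφ => hlin φ hφ ⟨a, ha⟩ ⟨b, hb⟩, ← h1]
      rfl
    exact (mem_kerSubgroup _ x).1 (hle hx)
  · intro hker
    obtain ⟨n, ρ, hρ, rfl⟩ := hθ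
    haveI := hρ
    set M := ⁅A, A⁆
    have hρM : ∀ x ∈ M, ρ x = 1 := fun x hx => apply_eq_one_of_character_eq ρ (by
      rw [hker x hx, ρ.char_one])
    let σ : Representation ℂ (G ⧸ M) (Fin n → ℂ) :=
      QuotientGroup.lift M ρ fun x hx => MonoidHom.mem_ker.2 (hρM x hx)
    haveI : Nontrivial (Fin n → ℂ) :=
      Module.nontrivial_of_finrank_pos (R := ℂ) (finrank_pos_of_isIrreducible ρ)
    haveI : σ.IsIrreducible := isIrreducible_of_no_sub σ fun S => by
      let S' : Subrepresentation ρ := ⟨S.toSubmodule, fun u v hv =>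
        S.apply_mem_toSubmodule (u : G ⧸ M) hv⟩
      rcases hρ.eq_bot_or_eq_top S' with h0 | h0
      · exact Or.inl (Subrepresentation.toSubmodule_injective
          (congrArg Subrepresentation.toSubmodule h0 :))
      · exact Or.inr (Subrepresentation.toSubmodule_injective
          (congrArg Subrepresentation.toSubmodule h0 :))
    haveI : (A.map (QuotientGroup.mk' M)).Normal :=
      Subgroup.Normal.map inferInstance _ (QuotientGroup.mk'_surjective M)
    have h1 := finrank_dvd_index_of_abelian σ (A.map (QuotientGroup.mk' M)) (by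
      rintro _ ⟨a, ha, rfl⟩ _ ⟨b, hb, rfl⟩
      rw [← map_mul, ← map_mul, QuotientGroup.mk'_eq_mk']
      refine ⟨(a * b)⁻¹ * (b * a), ?_, by group⟩
      have := Subgroup.commutator_mem_commutator (inv_mem hb) (inv_mem ha)
      simpa [commutatorElement_def, mul_assoc] using this)
    have h2 : cdeg ρ.character = Module.finrank ℂ (Fin n → ℂ) := by
      rw [cdeg, ρ.char_one, Complex.natCast_re, Nat.floor_natCast]
    rw [h2]
    exact fun h => hidx ((h.trans h1).trans
      (Subgroup.index_map_dvd _ (QuotientGroup.mk'_surjective M)))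

variable (P : Sylow 2 G)

/-- Odd-degree characters kill a normal subgroup meeting the normaliser trivially. -/
theorem le_ker_of_odd (K : Subgroup G) [K.Normal]
    (hK : K ⊓ normalizer ((P : Subgroup G) : Set G) = ⊥) {χ : G → ℂ}
    (hχ : Cfsg.IsIrrCharacter G χ) (hodd : ¬ 2 ∣ cdeg χ) : ∀ k ∈ K, χ k = χ 1 := by
  classical
  haveI := Fintype.ofFinite G
  haveI := Fintype.ofFinite K
  refine (classInner_indFun_one_ne_zero_iff hχ).1 fun h0 => hodd ?_
  rw [classInner_indFun _ (IsIrrCharacter.isClassFunction hχ), classInner_def] at h0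
  have hsum : ∑ k : K, χ (k : G) = 0 := by
    have := (mul_eq_zero.1 h0).resolve_left
      (inv_ne_zero (Nat.cast_ne_zero.2 Nat.card_pos.ne'))
    have h2 := congrArg (starRingEnd ℂ) this
    rw [map_sum, map_zero] at h2
    simpa [Complex.conj_conj] using h2
  -- the action of `P` by conjugation
  letI : MulAction (P : Subgroup G) K := MulAction.compHom K
    ((MulAut.conjNormal : G →* MulAut K).comp (P : Subgroup G).subtype)
  have hsmul : ∀ (t : (P : Subgroup G)) (k : K), ((t • k : K) : G) = t * k * (t : G)⁻¹ :=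
    fun _ _ => MulAut.conjNormal_apply _ _
  have hfix : ∀ k : K, (∀ t : (P : Subgroup G), t • k = k) → k = 1 := by
    intro k hk
    have hkN : (k : G) ∈ normalizer ((P : Subgroup G) : Set G) := by
      refine centralizer_le_normalizer _ (mem_centralizer_iff.2 fun t ht => ?_)
      have := congrArg Subtype.val (hk ⟨t, ht⟩)
      rw [hsmul] at this
      exact mul_inv_eq_iff_eq_mul.1 this
    exact Subtype.ext (mem_bot.1 (hK ▸ (⟨k.2, hkN⟩ : (k : G) ∈ K ⊓ _)))
  set Ω := Quotient (MulAction.orbitRel (P : Subgroup G) K)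
  haveI : Fintype Ω := Fintype.ofFinite _
  let rep : Ω → K := fun ω => ω.out
  have hconst : ∀ (ω : Ω) (x : MulAction.orbit (P : Subgroup G) (rep ω)), χ ((x : K) : G) = χ (rep ω : G) := by
    rintro ω ⟨x, t, rfl⟩
    show χ (((t • rep ω : K)) : G) = _
    rw [hsmul]
    exact IsIrrCharacter.isClassFunction hχ _ _
  have h3 : ∑ k : K, χ (k : G) =
      ∑ ω : Ω, (Nat.card (MulAction.orbit (P : Subgroup G) (rep ω)) : ℂ) * χ (rep ω : G) := by
    rw [← Equiv.sum_comp (MulAction.selfEquivSigmaOrbits (P : Subgroup G) K).symm,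
      Fintype.sum_sigma]
    refine Finset.sum_congr rfl fun ω _ => ?_
    rw [Finset.sum_congr rfl fun x _ => ?_]
    · rw [Finset.sum_const, Finset.card_univ, nsmul_eq_mul, ← Nat.card_eq_fintype_card]
    · exact hconst ω x
  set ω₁ : Ω := Quotient.mk _ (1 : K)
  have hrep : rep ω₁ = 1 := by
    obtain ⟨t, ht⟩ := (Quotient.exact (Quotient.out_eq ω₁) : _)
    show Quotient.out ω₁ = 1
    rw [← ht]
    exact Subtype.ext (by show ((t • (1 : K) : K) : G) = 1; rw [hsmul]; simp)
  have hpar : ∀ ω, ω ≠ ω₁ → 2 ∣ Nat.card (MulAction.orbit (P : Subgroup G) (rep ω)) := by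
    intro ω hω
    obtain ⟨n, hn⟩ := P.2.card_orbit (rep ω)
    rcases Nat.eq_zero_or_pos n with rfl | hn0
    · exfalso
      rw [pow_zero, Nat.card_eq_one_iff_unique] at hn
      refine hω ?_
      have h1 : rep ω = 1 := hfix _ fun t => congrArg Subtype.val
        (hn.1.elim ⟨t • rep ω, t, rfl⟩ ⟨rep ω, MulAction.mem_orbit_self _⟩)
      rw [← Quotient.out_eq ω, show ω.out = 1 from h1]
    · rw [hn]; exact dvd_pow_self 2 hn0.ne'
  set z := ∑ ω ∈ Finset.univ.erase ω₁,
    ((Nat.card (MulAction.orbit (P : Subgroup G) (rep ω)) / 2 : ℕ) : ℂ) * χ (rep ω : G)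
  have hz : IsIntegral ℤ z := IsIntegral.sum _ fun ω _ =>
    (isIntegral_natCast _).mul (IsCharacter.isIntegral (IsIrrCharacter.isCharacter hχ) _)
  have h4 : (cdeg χ : ℂ) + 2 * z = 0 := by
    rw [← hsum, h3, ← Finset.add_sum_erase _ _ (Finset.mem_univ ω₁), hrep, Finset.mul_sum,
      OneMemClass.coe_one, ← irr_apply_one_eq_cdeg hχ]
    congr 1
    · have : Nat.card (MulAction.orbit (P : Subgroup G) (1 : K)) = 1 := by
        rw [Nat.card_eq_one_iff_unique]
        refine ⟨⟨?_⟩, ⟨⟨1, MulAction.mem_orbit_self _⟩⟩⟩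
        rintro ⟨x, t, rfl⟩ ⟨y, s, rfl⟩
        exact Subtype.ext (Subtype.ext (by simp [hsmul]))
      rw [this, Nat.cast_one, one_mul]
    · refine Finset.sum_congr rfl fun ω hω => ?_
      rw [← mul_assoc]
      congr 1
      have := Nat.mul_div_cancel' (hpar ω (Finset.ne_of_mem_erase hω))
      exact_mod_cast this
  refine dvd_of_isIntegral_div two_ne_zero ?_
  have : (cdeg χ : ℂ) / ((2 : ℕ) : ℂ) = -z := by
    rw [div_eq_iff (by norm_num)]
    push_cast
    linear_combination h4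
  rw [this]
  exact hz.neg

/-- Restriction to a supplement of a kernel stays irreducible. -/
theorem isIrr_restrict {χ : G → ℂ} (hχ : Cfsg.IsIrrCharacter G χ) (K N : Subgroup G) [K.Normal]
    (htop : K ⊔ N = ⊤) (hker : ∀ k ∈ K, χ k = χ 1) :
    Cfsg.IsIrrCharacter N (fun x : N => χ x) := by
  obtain ⟨n, ρ, hρ, rfl⟩ := hχ
  haveI := hρ
  haveI : Nontrivial (Fin n → ℂ) :=
    Module.nontrivial_of_finrank_pos (R := ℂ) (finrank_pos_of_isIrreducible ρ)
  refine ⟨n, ρ.comp N.subtype, isIrreducible_of_no_sub (G := N) (ρ.comp N.subtype) fun S => ?_, rfl⟩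
  let S' : Subrepresentation ρ := ⟨S.toSubmodule, fun u v hv => by
    have hu : u ∈ K ⊔ N := by rw [htop]; exact mem_top u
    obtain ⟨k, hk, x, hx, rfl⟩ := mem_sup_of_normal_left.1 hu
    rw [map_mul, apply_eq_one_of_character_eq ρ ((hker k hk).trans ρ.char_one), one_mul]
    exact S.apply_mem_toSubmodule ⟨x, hx⟩ hv⟩
  rcases hρ.eq_bot_or_eq_top S' with h0 | h0
  · exact Or.inl (Subrepresentation.toSubmodule_injective
      (congrArg Subrepresentation.toSubmodule h0 :))
  · exact Or.inr (Subrepresentation.toSubmodule_injective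
      (congrArg Subrepresentation.toSubmodule h0 :))

/-- The inequality and its equality case, over finsets. -/
theorem main :
    (Nat.card (normalizer ((P : Subgroup G) : Set G)) ≤ Nat.card (commutator ↥P) *
        ∑ χ ∈ (irrFinset G).filter (fun χ => ¬ 2 ∣ cdeg χ), cdeg χ ^ 2) ∧
    (Nat.card (normalizer ((P : Subgroup G) : Set G)) = Nat.card (commutator ↥P) *
        ∑ χ ∈ (irrFinset G).filter (fun χ => ¬ 2 ∣ cdeg χ), cdeg χ ^ 2 ↔
      ∃ K : Subgroup G, K.Normal ∧ K ⊓ normalizer ((P : Subgroup G) : Set G) = ⊥ ∧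
        K ⊔ normalizer ((P : Subgroup G) : Set G) = ⊤) := by
  classical
  haveI := Fintype.ofFinite G
  set N := normalizer ((P : Subgroup G) : Set G) with hNdef
  haveI := Fintype.ofFinite N
  have hPN : (P : Subgroup G) ≤ N := le_normalizer
  set A : Subgroup N := (P : Subgroup G).subgroupOf N
  haveI : A.Normal := Subgroup.normal_in_normalizer
  have hAp : IsPGroup 2 A := P.2.of_equiv (subgroupOfEquivOfLe hPN).symm
  have hAi : ¬ 2 ∣ A.index := fun h =>
    P.not_dvd_index (h.trans (Subgroup.relIndex_dvd_index_of_le hPN))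
  set AG := (irrFinset G).filter (fun χ => ¬ 2 ∣ cdeg χ)
  set B := (irrFinset N).filter (fun θ => ¬ 2 ∣ cdeg θ)
  have hcard : Nat.card N = Nat.card (commutator ↥P) * ∑ θ ∈ B, cdeg θ ^ 2 := by
    have hB : B = (irrFinset N).filter (fun θ => ∀ x ∈ ⁅A, A⁆, θ x = θ 1) :=
      Finset.filter_congr fun θ hθ => odd_iff_commutator_le A hAp hAi (mem_irrFinset.1 hθ)
    rw [hB, sum_cdeg_sq_kernel ⁅A, A⁆, ← Subgroup.card_mul_index ⁅A, A⁆]
    congr 1
    rw [← card_map_of_injective (K := (⁅A, A⁆ : Subgroup N)) N.subtype_injective, map_commutator,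
      map_subgroupOf_eq_of_le hPN, ← map_subtype_commutator (P : Subgroup G)]
    exact card_map_of_injective (P : Subgroup G).subtype_injective
  have hm : ∀ χ ∈ irrFinset G, ∀ θ ∈ irrFinset N, ∃ m : ℕ,
      Cfsg.classInner (fun x : N => χ x) θ = m := fun χ hχ θ hθ =>
    IsCharacter.exists_classInner_eq_natCast
      (IsCharacter.restrict (IsIrrCharacter.isCharacter (mem_irrFinset.1 hχ)) N)
      (mem_irrFinset.1 hθ)
  choose! m hm using hm
  -- restriction
  have hres : ∀ χ ∈ irrFinset G, ∑ θ ∈ irrFinset N, m χ θ * cdeg θ = cdeg χ := by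
    intro χ hχ
    have hχ' := mem_irrFinset.1 hχ
    have h := congrFun (eq_sum_irr (IsCharacter.isClassFunction
      (IsCharacter.restrict (IsIrrCharacter.isCharacter hχ') N))) 1
    rw [Finset.sum_apply] at h
    simp only [OneMemClass.coe_one] at h
    rw [irr_apply_one_eq_cdeg hχ', Finset.sum_congr rfl fun θ hθ => (show
      (Cfsg.classInner (fun x : N => χ x) θ • θ) 1 = ((m χ θ * cdeg θ : ℕ) : ℂ) by
        rw [Pi.smul_apply, smul_eq_mul, hm χ hχ θ hθ,
          irr_apply_one_eq_cdeg (mem_irrFinset.1 hθ), Nat.cast_mul]), ← Nat.cast_sum,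
      Nat.cast_inj] at h
    exact h.symm
  -- induction
  have hind : ∀ θ ∈ irrFinset N, ∑ χ ∈ irrFinset G, m χ θ * cdeg χ = N.index * cdeg θ := by
    intro θ hθ
    have hθ' := mem_irrFinset.1 hθ
    have h := congrFun (eq_sum_irr (isClassFunction_indFun N θ)) 1
    rw [indFun_one, Finset.sum_apply] at h
    rw [irr_apply_one_eq_cdeg hθ', Finset.sum_congr rfl fun χ hχ => (show
      (Cfsg.classInner (Cfsg.indFun N θ) χ • χ) 1 = ((m χ θ * cdeg χ : ℕ) : ℂ) by
        rw [Pi.smul_apply, smul_eq_mul,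
          classInner_indFun θ (IsIrrCharacter.isClassFunction (mem_irrFinset.1 hχ)),
          ← classInner_conj, hm χ hχ θ hθ, Complex.conj_natCast,
          irr_apply_one_eq_cdeg (mem_irrFinset.1 hχ), Nat.cast_mul]), ← Nat.cast_sum,
      ← Nat.cast_mul, Nat.cast_inj] at h
    exact h.symm
  have hNi : ¬ 2 ∣ N.index := fun h => P.not_dvd_index (h.trans (index_dvd_of_le hPN))
  have hchi : ∀ θ ∈ B, ∃ χ ∈ AG, m χ θ ≠ 0 := by
    intro θ hθ
    obtain ⟨hθ', hθodd⟩ := Finset.mem_filter.1 hθ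
    by_contra hno
    push Not at hno
    refine (Nat.prime_two.dvd_mul.1 (hind θ hθ' ▸ Finset.dvd_sum fun χ hχ => ?_ :
      2 ∣ N.index * cdeg θ)).elim hNi hθodd
    by_cases hc : 2 ∣ cdeg χ
    · exact hc.mul_left _
    · rw [hno χ (Finset.mem_filter.2 ⟨hχ, hc⟩), zero_mul]; exact dvd_zero 2
  have hlow : ∀ θ ∈ B, cdeg θ ≤ ∑ χ ∈ AG, m χ θ * cdeg χ := by
    intro θ hθ
    obtain ⟨χ, hχ, hne⟩ := hchi θ hθ
    have hθ' := (Finset.mem_filter.1 hθ).1
    have hχ' := (Finset.mem_filter.1 hχ).1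
    calc cdeg θ ≤ m χ θ * cdeg θ := Nat.le_mul_of_pos_left _ (Nat.pos_of_ne_zero hne)
      _ ≤ cdeg χ := hres χ hχ' ▸ Finset.single_le_sum (f := fun η => m χ η * cdeg η)
          (fun _ _ => Nat.zero_le _) hθ'
      _ ≤ m χ θ * cdeg χ := Nat.le_mul_of_pos_left _ (Nat.pos_of_ne_zero hne)
      _ ≤ _ := Finset.single_le_sum (f := fun ξ => m ξ θ * cdeg ξ) (fun _ _ => Nat.zero_le _) hχ
  have hchain : ∑ θ ∈ B, cdeg θ * ∑ χ ∈ AG, m χ θ * cdeg χ ≤ ∑ χ ∈ AG, cdeg χ ^ 2 := by
    simp_rw [Finset.mul_sum]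
    rw [Finset.sum_comm]
    refine Finset.sum_le_sum fun χ hχ => ?_
    have hχ' := (Finset.mem_filter.1 hχ).1
    calc ∑ θ ∈ B, cdeg θ * (m χ θ * cdeg χ) = (∑ θ ∈ B, m χ θ * cdeg θ) * cdeg χ := by
          rw [Finset.sum_mul]; exact Finset.sum_congr rfl fun θ _ => by ring
      _ ≤ cdeg χ * cdeg χ := Nat.mul_le_mul_right _ (hres χ hχ' ▸
          Finset.sum_le_sum_of_subset (Finset.filter_subset _ _))
      _ = cdeg χ ^ 2 := (sq _).symm
  have hle : ∑ θ ∈ B, cdeg θ ^ 2 ≤ ∑ χ ∈ AG, cdeg χ ^ 2 :=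
    (Finset.sum_le_sum fun θ hθ => by
      rw [sq]; exact Nat.mul_le_mul_left _ (hlow θ hθ)).trans hchain
  have hpos : 0 < Nat.card (commutator ↥P) := Nat.card_pos
  refine ⟨hcard ▸ Nat.mul_le_mul_left _ hle, ?_⟩
  rw [hcard, Nat.mul_right_inj hpos.ne']
  constructor
  · intro heq
    have h1 : ∀ θ ∈ B, cdeg θ ^ 2 = cdeg θ * ∑ χ ∈ AG, m χ θ * cdeg χ := by
      refine (Finset.sum_eq_sum_iff_of_le fun θ hθ => ?_).1
        (le_antisymm (Finset.sum_le_sum fun θ hθ => ?_) (heq ▸ hchain)) <;>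
      · rw [sq]; exact Nat.mul_le_mul_left _ (hlow θ hθ)
    obtain ⟨K, hK, hsup, hinf⟩ := (Cfsg.Agent.S4931.result 2 P).1 (by
      rintro ⟨θ, hθ⟩ hodd
      have hθB : θ ∈ B := Finset.mem_filter.2 ⟨mem_irrFinset.2 hθ, hodd⟩
      obtain ⟨χ, hχ, hne⟩ := hchi θ hθB
      have hχ' := (Finset.mem_filter.1 hχ).1
      have h2 : cdeg θ = ∑ ξ ∈ AG, m ξ θ * cdeg ξ := by
        have := h1 θ hθB
        rw [sq] at this
        exact Nat.eq_of_mul_eq_mul_left (cdeg_pos hθ) this
      have h3 : cdeg χ ≤ cdeg θ := by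
        rw [h2]
        exact (Nat.le_mul_of_pos_left _ (Nat.pos_of_ne_zero hne)).trans
          (Finset.single_le_sum (f := fun ξ => m ξ θ * cdeg ξ) (fun _ _ => Nat.zero_le _) hχ)
      have h4 : cdeg θ ≤ cdeg χ :=
        (Nat.le_mul_of_pos_left _ (Nat.pos_of_ne_zero hne)).trans
          (hres χ hχ' ▸ Finset.single_le_sum (f := fun η => m χ η * cdeg η)
            (fun _ _ => Nat.zero_le _) (mem_irrFinset.2 hθ))
      refine ⟨⟨χ, mem_irrFinset.1 hχ'⟩, fun x => ?_⟩
      have hr := IsCharacter.eq_of_constituent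
        (IsCharacter.restrict (IsIrrCharacter.isCharacter (mem_irrFinset.1 hχ')) N) hθ
        (by rw [hm χ hχ' θ (mem_irrFinset.2 hθ)]; exact Nat.cast_ne_zero.2 hne)
        (by
          show χ ((1 : N) : G) = θ 1
          rw [OneMemClass.coe_one, irr_apply_one_eq_cdeg (mem_irrFinset.1 hχ'),
            irr_apply_one_eq_cdeg hθ, le_antisymm h3 h4])
      exact congrFun hr x)
    exact ⟨K, hK, hinf, hsup⟩
  · rintro ⟨K, hK, hinf, hsup⟩
    haveI := hK
    refine le_antisymm hle ?_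
    have hker : ∀ χ ∈ AG, ∀ k ∈ K, χ k = χ 1 := fun χ hχ =>
      le_ker_of_odd P K hinf (mem_irrFinset.1 (Finset.mem_filter.1 hχ).1) (Finset.mem_filter.1 hχ).2
    have hdeg : ∀ χ : G → ℂ, cdeg (fun x : N => χ x) = cdeg χ := fun χ => by
      simp [cdeg]
    have hinj : Set.InjOn (fun (χ : G → ℂ) (x : N) => χ x) AG := by
      intro χ hχ ξ hξ he
      funext g
      have hg : g ∈ K ⊔ N := by rw [hsup]; exact mem_top g
      obtain ⟨k, hk, x, hx, rfl⟩ := mem_sup_of_normal_left.1 hg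
      have hc := IsIrrCharacter.isCharacter (mem_irrFinset.1 (Finset.mem_filter.1 hχ).1)
      have hc' := IsIrrCharacter.isCharacter (mem_irrFinset.1 (Finset.mem_filter.1 hξ).1)
      rw [IsCharacter.apply_mul_of_apply_eq hc (hker χ hχ k hk) x,
        IsCharacter.apply_mul_of_apply_eq hc' (hker ξ hξ k hk) x]
      exact congrFun he ⟨x, hx⟩
    rw [← Finset.sum_congr rfl fun χ _ => congrArg (· ^ 2) (hdeg χ),
      ← Finset.sum_image (f := fun θ : N → ℂ => cdeg θ ^ 2) hinj]
    refine Finset.sum_le_sum_of_subset fun θ hθ => ?_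
    obtain ⟨χ, hχ, rfl⟩ := Finset.mem_image.1 hθ
    exact Finset.mem_filter.2 ⟨mem_irrFinset.2 (isIrr_restrict
      (mem_irrFinset.1 (Finset.mem_filter.1 hχ).1) K N hsup (hker χ hχ)),
      by rw [hdeg]; exact (Finset.mem_filter.1 hχ).2⟩

end CfsgLib.OddDegreeSum
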